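import Cfsg.Agent.SuzCover.Mult.Checked
import Cfsg.Agent.SuzG24Iso.Main
import Cfsg.Agent.G2FourMult.Main
import Cfsg.Agent.StemCert.Split
import Cfsg.Agent.ProjExt.Stem

/-!
The kernel of a stem extension of the presented Suzuki group is cyclic of order dividing six: the preimage of the
point stabiliser meets it in at most two elements inside its derived group, and its image in the abelianisation of
that preimage is cyclic of order dividing three.
-/

set_option autoImplicit false

namespace Cfsg.Agent.SuzCover.Mult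

open Cfsg.Agent.CosetCert
open Cfsg.Agent.CocycleCert (evalS evalS_cons map_evalS)
open Cfsg.Agent.SuzG24Iso (suzRels)
open scoped commutatorElement

/-- The point stabiliser. -/
abbrev sub : Subgroup (PresentedGroup suzRels) := Data.sub suzRels SuzG24.subGens

open Data in
/-- In a valid table the words fixing the base point are those of the subgroup. -/
theorem base_iff {β : Type*} [DecidableEq β] {D : Data} {rels : Set (FreeGroup β)}
    {Sg : List (FreeGroup β)} {enc : β → Nat} {dec : Nat → β × Bool} {RL : List (List (β × Bool))}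
    (h : D.Valid) (S : Spells D rels Sg enc dec RL)
    (φ : PresentedGroup rels →* Equiv.Perm (Fin D.n))
    (π : Fin D.n ≃ PresentedGroup rels ⧸ Data.sub rels Sg)
    (hπ : ∀ g c, π (φ g c) = g • π c)
    (hfwd : ∀ (l : List (β × Bool)) (c : Fin D.n),
      (((φ (PresentedGroup.mk rels (FreeGroup.mk l)))⁻¹ c : Fin D.n) : Nat) =
        D.fwd (l.map (code D.iv enc)) c)
    (g : PresentedGroup rels) :
    φ g ⟨0, h.n_pos⟩ = ⟨0, h.n_pos⟩ ↔ g ∈ Data.sub rels Sg := by
  let c0 : Fin D.n := ⟨0, h.n_pos⟩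
  have hstab : ∀ g ∈ Data.sub rels Sg, φ g c0 = c0 := by
    intro g hg
    obtain ⟨s, hs, rfl⟩ := Subgroup.mem_map.1 hg
    induction hs using Subgroup.closure_induction with
    | mem s hs =>
      have h1 := hfwd s.toWord c0
      rw [FreeGroup.mk_toWord] at h1
      have h2 : (s.toWord.map (code D.iv enc)) ∈ D.W.drop D.nR :=
        S.drop_eq ▸ List.mem_map_of_mem hs
      rw [Nat.eq_of_beq_eq_true (List.all_eq_true.1 h.subs _ h2)] at h1
      exact (Equiv.Perm.inv_eq_iff_eq.1 (Fin.ext h1)).symm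
    | one => simp
    | mul x y hx hy h1 h2 =>
      simp [h1 (Subgroup.mem_map_of_mem _ hx), h2 (Subgroup.mem_map_of_mem _ hy)]
    | inv x hx h1 =>
      rw [map_inv, map_inv, Equiv.Perm.inv_eq_iff_eq]
      exact (h1 (Subgroup.mem_map_of_mem _ hx)).symm
  refine ⟨fun hg => ?_, hstab g⟩
  let _ : MulAction (PresentedGroup rels) (Fin D.n) := MulAction.compHom _ φ
  have hle : Data.sub rels Sg ≤ MulAction.stabilizer (PresentedGroup rels) c0 := hstab
  have horb : MulAction.orbit (PresentedGroup rels) c0 = Set.univ := by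
    refine Set.eq_univ_of_forall fun c => ?_
    obtain ⟨x, hx⟩ := QuotientGroup.mk_surjective (π c0)
    obtain ⟨y, hy⟩ := QuotientGroup.mk_surjective (π c)
    refine ⟨y * x⁻¹, π.injective ?_⟩
    show π (φ _ c0) = π c
    rw [hπ, ← hx, ← hy]
    show ((y * x⁻¹ * x : PresentedGroup rels) : PresentedGroup rels ⧸ Data.sub rels Sg) = _
    rw [inv_mul_cancel_right]
  have h1 := Subgroup.relIndex_mul_index hle
  rw [MulAction.index_stabilizer, horb, Set.ncard_univ, Nat.card_fin, Data.index_eq h S] at h1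
  exact Subgroup.relIndex_eq_one.1 ((Nat.mul_eq_right (Nat.pos_iff_ne_zero.1 h.n_pos)).1 h1) hg

/-- The stabiliser is perfect. -/
theorem sub_perfect : commutator sub = ⊤ := by
  obtain ⟨e⟩ := SuzG24Iso.sub_iso
  have hK : ∃ a : G2Four.K, a ≠ 0 ∧ a ≠ 1 := ⟨.w, by decide, by decide⟩
  rw [← Subgroup.map_top_of_surjective e.symm.toMonoidHom e.symm.surjective,
    ← Chev.g2_commutator G2Four.K hK, commutator_def, commutator_def, Subgroup.map_commutator,
    Subgroup.map_top_of_surjective _ e.symm.surjective]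

/-- In a stem extension the kernel meets the derived group of the preimage in at most two elements. -/
theorem ker_meet {Γ : Type} [Group Γ] [Finite Γ] (σ : Γ →* PresentedGroup suzRels)
    (hσ : Cfsg.IsStemExtension σ) :
    Nat.card ↥(σ.ker ⊓ (commutator (sub.comap σ)).map (sub.comap σ).subtype) ∣ 2 := by
  obtain ⟨hsurj, hker, -⟩ := hσ
  let P := sub.comap σ
  let D := (commutator P).map P.subtype
  let f : D →* sub := (σ.comp D.subtype).codRestrict sub fun d => by
    obtain ⟨p, -, hp⟩ := Subgroup.mem_map.1 d.2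
    show σ (d : Γ) ∈ sub
    rw [← hp]
    exact p.2
  let q : P →* sub := (σ.comp P.subtype).codRestrict sub fun p => p.2
  have hq : Function.Surjective q := fun h => by
    obtain ⟨x, hx⟩ := hsurj h
    exact ⟨⟨x, by rw [Subgroup.mem_comap, hx]; exact h.2⟩, Subtype.ext hx⟩
  have hqc : (commutator P).map q = ⊤ := by
    rw [commutator_def, Subgroup.map_commutator, Subgroup.map_top_of_surjective _ hq, ← commutator_def,
      sub_perfect]
  have hf : Function.Surjective f := fun h => by
    obtain ⟨p, hp, e⟩ := Subgroup.mem_map.1 (hqc ▸ Subgroup.mem_top h)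
    exact ⟨⟨p, Subgroup.mem_map_of_mem _ hp⟩, Subtype.ext (congrArg Subtype.val e :)⟩
  have hfc : f.ker ≤ Subgroup.center D := fun d hd => Subgroup.mem_center_iff.2 fun y => Subtype.ext <|
    Subgroup.mem_center_iff.1 (hker (MonoidHom.mem_ker.2 (congrArg Subtype.val hd :))) (y : Γ)
  have hperf : commutator D = ⊤ := by
    refine eq_top_iff.2 fun d _ => ?_
    obtain ⟨p, hp, e⟩ := Subgroup.mem_map.1 d.2
    have key : commutator P ≤ ((commutator D).map D.subtype).comap P.subtype := by
      rw [commutator_def, Subgroup.commutator_le]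
      intro x _ y _
      obtain ⟨dx, hdx⟩ := hf (q x)
      obtain ⟨dy, hdy⟩ := hf (q y)
      have hc : ∀ (x : P) (d : D), f d = q x → (d : Γ)⁻¹ * x ∈ Subgroup.center Γ := fun x d h =>
        hker (by
          rw [MonoidHom.mem_ker, map_mul, map_inv, show σ (d : Γ) = σ (x : Γ) from congrArg Subtype.val h,
            inv_mul_cancel])
      refine ⟨⁅dx, dy⁆, Subgroup.commutator_mem_commutator (Subgroup.mem_top _) (Subgroup.mem_top _), ?_⟩
      have e1 := StemCert.commutator_mul_central (dx : Γ) (dy : Γ) (hc x dx hdx) (hc y dy hdy)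
      rw [mul_inv_cancel_left, mul_inv_cancel_left] at e1
      rw [map_commutatorElement, map_commutatorElement]
      exact e1.symm
    obtain ⟨m, hm, e2⟩ := key hp
    have : m = d := Subtype.ext (e2.trans e)
    exact this ▸ hm
  obtain ⟨e⟩ := SuzG24Iso.sub_iso
  let f' := e.toMonoidHom.comp f
  have hst : Cfsg.IsStemExtension f' := by
    have hk : f'.ker = f.ker := MonoidHom.ker_mulEquiv_comp f e
    exact ⟨e.surjective.comp hf, hk ▸ hfc, hk ▸ (le_of_le_of_eq le_top hperf.symm)⟩
  obtain ⟨π, hπ⟩ := (G2FourMult.multiplier SuzG24Iso.card_K).2 D f' hst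
  have h2 := Subgroup.card_dvd_of_surjective π hπ
  rw [Nat.card_congr Multiplicative.toAdd, Nat.card_zmod] at h2
  refine dvd_trans (dvd_of_eq ?_) h2
  have hk : ∀ d : D, d ∈ f'.ker ↔ σ (d : Γ) = 1 := fun d => by
    rw [MonoidHom.mem_ker]
    show e (f d) = 1 ↔ _
    rw [map_eq_one_iff _ e.injective, ← Subtype.coe_inj]
    rfl
  exact Nat.card_congr
    { toFun := fun z => ⟨⟨(z : Γ), z.2.2⟩, (hk _).2 z.2.1⟩
      invFun := fun d => ⟨((d : D) : Γ), (hk _).1 d.2, (d : D).2⟩
      left_inv := fun _ => rfl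
      right_inv := fun _ => rfl }

/-- The exponent sum of a letter. -/
def expSum (x : ℕ) (w : List (ℕ × Bool)) : ℤ :=
  w.foldr (fun a r => (if a.1 = x then (if a.2 then 1 else -1) else 0) + r) 0

theorem tprod_expSum {A : Type*} [CommGroup A] (n : ℕ) (c : ℕ → A) :
    ∀ w : List (ℕ × Bool), (∀ a ∈ w, a.1 < n) →
      evalS c w = ∏ x ∈ Finset.range n, c x ^ expSum x w
  | [], _ => by simp [evalS, expSum]
  | (x, s) :: w, h => by
    have hx : x < n := h (x, s) (by simp)
    rw [evalS_cons, tprod_expSum n c w fun a ha => h a (by simp [ha])]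
    have e : ∀ y, c y ^ expSum y ((x, s) :: w) =
        (if x = y then cond s (c x) (c x)⁻¹ else 1) * c y ^ expSum y w := fun y => by
      show c y ^ ((if x = y then (if s = true then 1 else -1) else 0) + expSum y w) = _
      rw [zpow_add]
      split_ifs with h1 h2
      · subst h1 h2; simp
      · subst h1; simp at h2; subst h2; simp
      · simp
    simp only [e, Finset.prod_mul_distrib, Finset.prod_ite_eq, Finset.mem_range, hx, if_true]

theorem evalS_shift {Γ : Type*} [Group Γ] (K : Subgroup Γ) [IsMulCommutative K] (hK : K ≤ Subgroup.center Γ)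
    (l : ℕ → Γ) (c : ℕ → K) : ∀ w : List (ℕ × Bool),
    evalS (fun x => l x * (c x : Γ)) w = evalS l w * ((evalS c w : K) : Γ)
  | [] => by simp [evalS]
  | (x, s) :: w => by
    have hc : ∀ (y : K) (g : Γ), (y : Γ) * g = g * y := fun y g => (Subgroup.mem_center_iff.mp (hK y.2) g).symm
    rw [evalS_cons, evalS_cons, evalS_cons, evalS_shift K hK l c w]
    cases s
    · simp only [cond_false, mul_inv_rev, Subgroup.coe_mul, Subgroup.coe_inv]
      have h1 := hc (c x)⁻¹ ((l x)⁻¹ * evalS l w)
      rw [Subgroup.coe_inv] at h1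
      calc (c x : Γ)⁻¹ * (l x)⁻¹ * (evalS l w * ((evalS c w : K) : Γ))
          = (c x : Γ)⁻¹ * ((l x)⁻¹ * evalS l w) * ((evalS c w : K) : Γ) := by group
        _ = _ := by rw [h1]; group
    · simp only [cond_true, Subgroup.coe_mul]
      calc l x * (c x : Γ) * (evalS l w * ((evalS c w : K) : Γ))
          = l x * ((c x : Γ) * evalS l w) * ((evalS c w : K) : Γ) := by group
        _ = _ := by rw [hc]; group

/-- Pairs of equal signed letters are removed from the end. -/
def dropPairs : List (ℕ × Bool) → List (ℕ × Bool)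
  | a :: b :: t => if a = b ∧ dropPairs t = [] then [] else a :: dropPairs (b :: t)
  | l => l

theorem evalS_dropPairs {M : Type*} [Group M] (g : ℕ → M) : ∀ w : List (ℕ × Bool),
    (∀ a ∈ w, g a.1 * g a.1 = 1) → evalS g (dropPairs w) = evalS g w
  | [], _ => rfl
  | [_], _ => rfl
  | a :: b :: t, h => by
    unfold dropPairs
    split_ifs with hc
    · have ht := evalS_dropPairs g t fun x hx => h x (by simp [hx])
      rw [hc.2] at ht
      rw [evalS_cons, evalS_cons, ← ht, ← hc.1, evalS, List.map_nil, List.prod_nil, mul_one]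
      have := h a (by simp)
      cases a.2 <;> simp [← mul_inv_rev, this]
    · rw [evalS_cons, evalS_cons, evalS_dropPairs g (b :: t) fun x hx => h x (by simp [hx])]

/-- The relators of the certificate are those of the presentation, followed by some words in them and squares. -/
theorem rels_eq : cert.rels.take 33 =
    (coxWords SuzG24.genList Cfsg.Spor.Suz.edges Cfsg.Spor.Suz.extra).map
      (List.map fun a => (SuzG24.enc a.1, a.2)) := by
  decide +kernel

theorem extra_eq : ∀ w ∈ cert.rels, dropPairs w ∈ [] :: cert.rels.take 33 ∨ w ∈ cert.rels.take 33 := by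
  decide +kernel

/-- The words to be made trivial, their exponent sums. -/
theorem zero_exps : span.zero = [33, 34, 35, 36, 37, 38, 39] ∧
    (span.zero.map fun k => (List.range 7).map fun x => expSum x (cert.rels.getD k [])) =
      [[1, 0, 0, 0, 0, 0, 0], [1, 1, 0, 0, 0, 0, 0], [0, 1, 1, 0, 0, 0, 0], [0, 1, 0, 0, 0, 1, 0],
       [0, 1, 0, 0, 0, 0, 1], [0, 0, 0, 1, 1, 0, 0], [0, 15, 30, 30, 31, 0, 0]] := by
  decide +kernel

/-- The kernel of a stem extension is cyclic of order dividing six. -/
theorem ker_cyclic {Γ : Type} [Group Γ] [Finite Γ] (σ : Γ →* Cfsg.Spor.Suz) (hσ : Cfsg.IsStemExtension σ) :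
    ∃ z ∈ σ.ker, σ.ker ≤ Subgroup.zpowers z ∧ z ^ 6 = 1 := by
  classical
  obtain ⟨hsurj, hker, hcomm⟩ := hσ
  obtain ⟨φ, π, hπ, hfwd⟩ := Data.enumeration SuzG24.valid SuzG24.spells
  have hS := SuzG24.spells
  let g : ℕ → PresentedGroup suzRels := fun x => PresentedGroup.mk suzRels (FreeGroup.mk [SuzG24.dec x])
  have hsq1 : ∀ x < 7, g x * g x = 1 := fun x hx => hS.inv_letter x hx
  have hT : ∀ x < 7, ∀ c : Fin 1782, (((φ (g x))⁻¹ c : Fin 1782) : ℕ) = tab c x := fun x hx c => by
    rw [hfwd [SuzG24.dec x] c, List.map_cons, List.map_nil, hS.code_dec x hx, Data.fwd_cons,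
      Data.fwd_nil]
    rfl
  have hev : ∀ l : List (Cfsg.Spor.Suz.Gen × Bool),
      evalS g (l.map fun a => (SuzG24.enc a.1, a.2)) = PresentedGroup.mk suzRels (FreeGroup.mk l) := by
    intro l
    induction l with
    | nil => simp [evalS, ← FreeGroup.one_eq_mk]
    | cons a l ih =>
      rw [List.map_cons, evalS_cons, ih, show FreeGroup.mk (a :: l) = FreeGroup.mk [a] * FreeGroup.mk l by
        rw [FreeGroup.mul_mk]; rfl, map_mul]
      congr 1
      obtain ⟨b, _ | _⟩ := a
      · simp only [cond_false, g, (hS.enc_lt b).2]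
        rw [← map_inv, FreeGroup.inv_mk]
        rfl
      · simp only [cond_true, g, (hS.enc_lt b).2]
  have hbase : ∀ w ∈ cert.rels.take 33, evalS g w = 1 := by
    rw [rels_eq]
    intro w hw
    obtain ⟨w, hw', rfl⟩ := List.mem_map.mp hw
    rw [hev]
    exact hS.rels_one w hw'
  have hrels : ∀ w ∈ cert.rels, evalS g w = 1 := by
    intro w hw
    rcases extra_eq w hw with h | h
    · rw [← evalS_dropPairs g w fun a ha => hsq1 _ (checked.relsLt w hw a ha)]
      rcases List.mem_cons.1 h with h | h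
      · rw [h]; rfl
      · exact hbase _ h
    · exact hbase w h
  have : IsMulCommutative σ.ker :=
    ⟨⟨fun a b => Subtype.ext (Subgroup.mem_center_iff.mp (hker b.2) a)⟩⟩
  let : CommGroup σ.ker := IsMulCommutative.instCommGroup
  let l0 : ℕ → Γ := fun x => Function.surjInv hsurj (g x)
  have hl0 : ∀ x, σ (l0 x) = g x := fun x => Function.surjInv_eq hsurj _
  have hz : ∀ k < cert.nr, evalS l0 (cert.rels.getD k []) ∈ σ.ker := fun k hk => by
    rw [MonoidHom.mem_ker, map_evalS, show (fun x => σ (l0 x)) = g from funext hl0]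
    refine hrels _ ?_
    rw [CocycleCert.nr_eq] at hk
    rw [List.getD_eq_getElem _ _ hk]
    exact List.getElem_mem hk
  have hnr : cert.nr = 40 := by decide +kernel
  let y : ℕ → σ.ker := fun j => if h : 33 + j < cert.nr then ⟨_, hz _ h⟩ else 1
  let ca := (y 0)⁻¹
  let cb := (y 1)⁻¹ * y 0
  let cc := (y 2)⁻¹ * cb⁻¹
  let ce := (y 6)⁻¹ * cb ^ (-15 : ℤ) * cc ^ (-30 : ℤ) * y 5 ^ (30 : ℤ)
  let c : ℕ → σ.ker := fun x => [ca, cb, cc, (y 5)⁻¹ * ce⁻¹, ce, (y 3)⁻¹ * cb⁻¹, (y 4)⁻¹ * cb⁻¹].getD x 1
  let l : ℕ → Γ := fun x => l0 x * (c x : Γ)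
  have hl : ∀ x, σ (l x) = g x := fun x => by
    rw [map_mul, MonoidHom.mem_ker.mp (c x).2, hl0, mul_one]
  have hlt : ∀ k < cert.nr, ∀ a ∈ cert.rels.getD k [], a.1 < 7 := fun k hk => by
    refine checked.relsLt _ ?_
    rw [CocycleCert.nr_eq] at hk
    rw [List.getD_eq_getElem _ _ hk]
    exact List.getElem_mem hk
  have hzero : ∀ k ∈ span.zero, evalS l (cert.rels.getD k []) = 1 := by
    obtain ⟨hz0, hexp⟩ := zero_exps
    intro k hk
    have hk40 : k < cert.nr := checked.zero_lt k hk
    have hgoal : y (k - 33) * evalS c (cert.rels.getD k []) = 1 := by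
      rw [hz0] at hk hexp
      simp only [List.map_cons, List.map_nil, List.cons.injEq, and_true, List.range_succ, List.range_zero,
        List.nil_append, List.cons_append] at hexp
      rw [tprod_expSum 7 c _ (hlt k hk40)]
      simp only [Finset.prod_range_succ, Finset.prod_range_zero, one_mul]
      simp only [List.mem_cons, List.not_mem_nil, or_false] at hk
      apply Additive.ofMul.injective
      rcases hk with rfl | rfl | rfl | rfl | rfl | rfl | rfl <;>
        simp only [hexp, c, ce, cc, cb, ca, List.getD_cons_zero, List.getD_cons_succ, ofMul_mul, ofMul_inv,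
          ofMul_zpow, ofMul_one, zero_smul, add_zero, zero_add, one_smul] <;> abel
    show evalS l _ = 1
    rw [show evalS l _ = _ from evalS_shift σ.ker hker l0 c _]
    have hk33 : 33 + (k - 33) = k := by
      rw [hz0] at hk
      simp only [List.mem_cons, List.not_mem_nil, or_false] at hk
      omega
    have hy : y (k - 33) = ⟨_, hz k hk40⟩ := by
      simp only [y, hk33, dif_pos hk40]
    rw [hy] at hgoal
    exact congrArg Subtype.val hgoal
  have hgen : Subgroup.closure {e | ∃ x < cert.K, l x = e} = ⊤ := by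
    set H := Subgroup.closure {e | ∃ x < cert.K, l x = e}
    have hmap : ∀ a, a ∈ H.map σ := by
      intro a
      refine (?_ : Subgroup.closure (Set.range (PresentedGroup.of (rels := suzRels))) ≤ H.map σ)
        (by rw [PresentedGroup.closure_range_of]; exact Subgroup.mem_top _)
      rw [Subgroup.closure_le]
      rintro _ ⟨b, rfl⟩
      refine ⟨l (SuzG24.enc b), Subgroup.subset_closure ⟨_, (hS.enc_lt b).1, rfl⟩, ?_⟩
      rw [hl]
      simp only [g, (hS.enc_lt b).2]
      rfl
    have hH : ∀ a : Γ, ∃ h ∈ H, h⁻¹ * a ∈ Subgroup.center Γ := fun a => by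
      obtain ⟨h, hh, e⟩ := Subgroup.mem_map.mp (hmap (σ a))
      exact ⟨h, hh, hker (by rw [MonoidHom.mem_ker, map_mul, map_inv, e, inv_mul_cancel])⟩
    have hc : commutator Γ ≤ H := by
      rw [commutator_def, Subgroup.commutator_le]
      intro a _ b _
      obtain ⟨h, hh, hha⟩ := hH a
      obtain ⟨h', hh', hhb⟩ := hH b
      rw [show a = h * (h⁻¹ * a) by group, show b = h' * (h'⁻¹ * b) by group,
        StemCert.commutator_mul_central _ _ hha hhb]
      exact mul_mem (mul_mem (mul_mem hh hh') (inv_mem hh)) (inv_mem hh')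
    rw [eq_top_iff]
    intro a _
    obtain ⟨h, hh, e⟩ := Subgroup.mem_map.mp (hmap (σ a))
    rw [show a = h * (h⁻¹ * a) by group]
    exact mul_mem hh (hc (hcomm (by rw [MonoidHom.mem_ker, map_mul, map_inv, e, inv_mul_cancel])))
  have hback : ∀ x < 7, ∀ c : Fin 1782, ((φ (g x) c : Fin 1782) : ℕ) = tab c x := fun x hx c => by
    have h := hT x hx c
    rwa [← map_inv, inv_eq_of_mul_eq_one_right (hsq1 x hx)] at h
  obtain ⟨u, hu, hall⟩ := CocycleCert.cyclic_image checked σ hker φ g hT hback hrels sub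
    (fun y => base_iff SuzG24.valid SuzG24.spells φ π hπ hfwd y)
    l hl hzero hgen (Abelianization.of : sub.comap σ →* Abelianization (sub.comap σ))
  have hu3 : u ^ 3 = 1 := hu
  have hkS : σ.ker ≤ sub.comap σ := fun z hz => by
    rw [Subgroup.mem_comap, MonoidHom.mem_ker.mp hz]; exact one_mem _
  let ρ : σ.ker →* Abelianization (sub.comap σ) := Abelianization.of.comp (Subgroup.inclusion hkS)
  have hrange : Nat.card ρ.range ∣ 3 := by
    refine dvd_trans (Subgroup.card_dvd_of_le (fun x ⟨z, hzx⟩ => hzx ▸ hall _ : ρ.range ≤ Subgroup.zpowers u)) ?_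
    rw [Nat.card_zpowers]
    exact orderOf_dvd_of_pow_eq_one hu3
  have hk2 : Nat.card ρ.ker ∣ 2 := by
    refine dvd_trans (dvd_of_eq ?_) (ker_meet σ ⟨hsurj, hker, hcomm⟩)
    have hmem : ∀ z : σ.ker, z ∈ ρ.ker ↔ (z : Γ) ∈ (commutator (sub.comap σ)).map (sub.comap σ).subtype := by
      intro z
      rw [MonoidHom.mem_ker]
      show Abelianization.of (Subgroup.inclusion hkS z) = 1 ↔ _
      rw [← MonoidHom.mem_ker, Abelianization.ker_of]
      constructor
      · exact fun h => Subgroup.mem_map_of_mem _ h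
      · intro h
        obtain ⟨p, hp, e⟩ := Subgroup.mem_map.1 h
        have : p = Subgroup.inclusion hkS z := Subtype.ext e
        exact this ▸ hp
    exact Nat.card_congr
      { toFun := fun z => ⟨((z : σ.ker) : Γ), (z : σ.ker).2, (hmem _).1 z.2⟩
        invFun := fun d => ⟨⟨(d : Γ), d.2.1⟩, (hmem _).2 d.2.2⟩
        left_inv := fun _ => rfl
        right_inv := fun _ => rfl }
  have h6 : Nat.card σ.ker ∣ 6 := by
    rw [← ρ.ker.card_mul_index, Subgroup.index_ker]
    exact Nat.mul_dvd_mul hk2 hrange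
  have : IsZGroup σ.ker := IsZGroup.of_squarefree
    ((by decide +kernel : Squarefree 6).squarefree_of_dvd h6)
  have hcyc : IsCyclic σ.ker := inferInstance
  obtain ⟨z, hzgen⟩ := IsCyclic.exists_generator (α := σ.ker)
  refine ⟨z, z.2, fun a ha => ?_, ?_⟩
  · obtain ⟨n, hn⟩ := Subgroup.mem_zpowers_iff.mp (hzgen ⟨a, ha⟩)
    exact ⟨n, congrArg Subtype.val hn⟩
  · have : z ^ 6 = 1 := orderOf_dvd_iff_pow_eq_one.mp ((orderOf_dvd_natCard z).trans h6)
    exact congrArg Subtype.val this

end Cfsg.Agent.SuzCover.Mult
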