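import Cfsg.Agent.SuzCover.Mult.Data

/-! Generated: checks of the edges. -/

set_option autoImplicit false
set_option Elab.async false
set_option maxRecDepth 100000

namespace Cfsg.Agent.SuzCover.Mult

open Cfsg.Agent.CosetCert

theorem var_at3000 : allFrom cert.varB 3000 1500 = true := by decide +kernel

theorem var_at9000 : allFrom cert.varB 9000 1500 = true := by decide +kernel

end Cfsg.Agent.SuzCover.Mult
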