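import Cfsg.Agent.SuzCover.Mult.Check0
import Cfsg.Agent.SuzCover.Mult.Check1
import Cfsg.Agent.SuzCover.Mult.Check2
import Cfsg.Agent.SuzCover.Mult.Check3

/-! Generated: kernel checks combined. -/

set_option autoImplicit false
set_option Elab.async false
set_option maxRecDepth 100000

namespace Cfsg.Agent.SuzCover.Mult

open Cfsg.Agent.CosetCert

theorem var_ok : ∀ i, i < 12474 → cert.varB i = true := by
  have h0 : ∀ i, i < 0 → cert.varB i = true := forall_lt_zero
  have h1 := forall_lt_step (b := 1500) h0 var_at0 rfl
  have h2 := forall_lt_step (b := 3000) h1 var_at1500 rfl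
  have h3 := forall_lt_step (b := 4500) h2 var_at3000 rfl
  have h4 := forall_lt_step (b := 6000) h3 var_at4500 rfl
  have h5 := forall_lt_step (b := 7500) h4 var_at6000 rfl
  have h6 := forall_lt_step (b := 9000) h5 var_at7500 rfl
  have h7 := forall_lt_step (b := 10500) h6 var_at9000 rfl
  have h8 := forall_lt_step (b := 12000) h7 var_at10500 rfl
  have h9 := forall_lt_step (b := 12474) h8 var_at12000 rfl
  exact h9

theorem checked : span.Checked cert where
  d_eq := by decide +kernel
  n_pos := by decide +kernel
  K_pos := by decide +kernel
  relsLen := by decide +kernel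
  relsLt := by decide +kernel
  free_lt := by decide +kernel
  zero_lt := by decide +kernel
  u_lt := by decide +kernel
  tree := fun c hc => (allFrom_iff cert.treeB 0 1782).1 (by decide +kernel) c (Nat.zero_le c) (by rw [Nat.zero_add]; exact hc)
  var := var_ok
  row := List.all_eq_true.1 (by decide +kernel : cert.rows.all cert.rowB = true)
  field := fun c hc => (allFrom_iff (span.fieldB cert) 0 52).1 (by decide +kernel) c (Nat.zero_le c) (by rw [Nat.zero_add]; exact hc)
  top := by decide +kernel

end Cfsg.Agent.SuzCover.Mult
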